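import Groth.Prelude.Def_KZero2
import Mathlib.CategoryTheory.Triangulated.Pretriangulated
import Mathlib.CategoryTheory.Limits.Preserves.Shapes.Products
import Mathlib.Algebra.Ring.NegOnePow
import Mathlib.Tactic.Ring
import Mathlib.Tactic.Abel

universe v u

open CategoryTheory Limits Pretriangulated
open scoped ZeroObject

namespace KZeroTri

variable {C : Type u} [Category.{v} C] [Preadditive C] [HasZeroObject C] [HasShift C ℤ]
  [∀ n : ℤ, (shiftFunctor C n).Additive] [Pretriangulated C]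

theorem cl_triangle {T : Triangle C} (hT : T ∈ distinguishedTriangles) :
    KZero.clTri T.obj₂ = KZero.clTri T.obj₁ + KZero.clTri T.obj₃ := by
  rw [← sub_eq_zero, ← sub_sub]
  exact (QuotientAddGroup.eq_zero_iff _).2
    (AddSubgroup.subset_closure ⟨T, trivial, trivial, trivial, hT, rfl⟩)

theorem cl_zeroObj {Z : C} (hZ : IsZero Z) : KZero.clTri Z = 0 := by
  have h := cl_triangle (T := Triangle.mk (𝟙 Z) (0 : Z ⟶ Z) 0)
    (isomorphic_distinguished _ (contractible_distinguished Z) _
      (Triangle.isoMk _ _ (Iso.refl _) (Iso.refl _) (hZ.isoZero)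
        ((Category.comp_id _).trans (Category.id_comp _).symm) (hZ.eq_of_src _ _) (hZ.eq_of_src _ _)))
  change KZero.clTri Z = KZero.clTri Z + KZero.clTri Z at h
  simpa using h

theorem cl_iso {X Y : C} (e : X ≅ Y) : KZero.clTri X = KZero.clTri Y := by
  have h := cl_triangle (T := Triangle.mk e.hom (0 : Y ⟶ (0 : C)) 0)
    (isomorphic_distinguished _ (contractible_distinguished X) _
      (Triangle.isoMk _ _ (Iso.refl _) e.symm (Iso.refl _)
        (e.hom_inv_id.trans (Category.id_comp _).symm) ((isZero_zero C).eq_of_tgt _ _)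
        ((isZero_zero C).eq_of_src _ _)))
  change KZero.clTri Y = KZero.clTri X + KZero.clTri (0 : C) at h
  rw [h, cl_zeroObj (isZero_zero C), add_zero]

theorem cl_shift_one (X : C) : KZero.clTri (X⟦(1 : ℤ)⟧) = - KZero.clTri X := by
  have h := cl_triangle (rot_of_distTriang _ (contractible_distinguished X))
  change KZero.clTri (0 : C) = KZero.clTri X + KZero.clTri (X⟦(1 : ℤ)⟧) at h
  rw [cl_zeroObj (isZero_zero C)] at h
  exact eq_neg_of_add_eq_zero_right h.symm

theorem cl_shift (X : C) (m : ℤ) : KZero.clTri (X⟦m⟧) = Int.negOnePow m • KZero.clTri X := by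
  have key : ∀ k : ℤ, KZero.clTri (X⟦k + 1⟧) = - KZero.clTri (X⟦k⟧) := fun k => by
    rw [cl_iso ((shiftFunctorAdd C k 1).app X)]
    exact cl_shift_one _
  induction m with
  | zero => rw [cl_iso ((shiftFunctorZero C ℤ).app X), Int.negOnePow_zero, one_smul]; rfl
  | succ k ih => rw [key, ih, Int.negOnePow_succ, Units.neg_smul]
  | pred k ih =>
    have h := key (-(k : ℤ) - 1)
    rw [sub_add_cancel, ih] at h
    rw [eq_neg_iff_add_eq_zero, add_comm, ← eq_neg_iff_add_eq_zero] at h
    rw [h, ← Units.neg_smul]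
    congr 1
    rw [← Int.negOnePow_succ]
    have e : -(k : ℤ) = (-(k : ℤ) - 1) + 1 := by ring
    conv_lhs => rw [e, Int.negOnePow_succ]
    rw [Int.negOnePow_succ]
    rw [neg_neg]

theorem swindle (L : C) (n : ℤ)
    [HasCoproduct (fun i : ℕ => (shiftFunctor C (2 * n * (i : ℤ))).obj L)] :
    KZero.clTri L = 0 := by
  let f : ℕ → C := fun i => (shiftFunctor C (2 * n * (i : ℤ))).obj L
  let F := shiftFunctor C (2 * n)
  haveI : F.IsEquivalence := inferInstance
  have hQ : IsColimit (Cofan.mk (F.obj (∐ f)) (fun i => F.map (Sigma.ι f i))) :=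
    isColimitCofanMkObjOfIsColimit F _ _ (coproductIsCoproduct f)
  let e0 : f 0 ≅ L := (shiftFunctorZero' C (2 * n * ((0 : ℕ) : ℤ)) (by simp)).app L
  let es : ∀ i : ℕ, f (i + 1) ≅ F.obj (f i) := fun i =>
    (shiftFunctorAdd' C (2 * n * (i : ℤ)) (2 * n) (2 * n * ((i + 1 : ℕ) : ℤ))
      (by push_cast; ring)).app L
  let g : F.obj (∐ f) ⟶ ∐ f := Cofan.IsColimit.desc hQ fun i => (es i).inv ≫ Sigma.ι f (i + 1)
  have hg : ∀ i, F.map (Sigma.ι f i) ≫ g = (es i).inv ≫ Sigma.ι f (i + 1) := fun i =>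
    Cofan.IsColimit.fac hQ _ i
  let a : ∐ f ⟶ L ⊞ F.obj (∐ f) := Sigma.desc fun i => match i with
    | 0 => e0.hom ≫ biprod.inl
    | i + 1 => (es i).hom ≫ F.map (Sigma.ι f i) ≫ biprod.inr
  let b : L ⊞ F.obj (∐ f) ⟶ ∐ f := biprod.desc (e0.inv ≫ Sigma.ι f 0) g
  let e : ∐ f ≅ L ⊞ F.obj (∐ f) :=
    { hom := a
      inv := b
      hom_inv_id := by
        refine Sigma.hom_ext _ _ fun i => ?_
        rcases i with _ | i
        · simp [a, b, f]
        · simp [a, b, hg, f]
      inv_hom_id := by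
        apply biprod.hom_ext'
        · simp [a, b, f]
        · simp only [b, biprod.inr_desc_assoc, Category.comp_id]
          refine Cofan.IsColimit.hom_ext hQ _ _ fun i => ?_
          simp [reassoc_of% hg, a, f] }
  have h1 := cl_triangle (binaryBiproductTriangle_distinguished L (F.obj (∐ f)))
  change KZero.clTri (L ⊞ F.obj (∐ f)) = KZero.clTri L + KZero.clTri (F.obj (∐ f)) at h1
  rw [← cl_iso e, cl_shift, Int.negOnePow_two_mul, one_smul] at h1
  simpa using h1

end KZeroTri
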